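import Mathlib.AlgebraicTopology.SimplicialSet.KanComplex
import Mathlib.Algebra.Category.Grp.Basic

/-! A simplicial group is a Kan complex (Moore). -/

universe u

open CategoryTheory Simplicial Opposite

noncomputable section

namespace Groth.Agent.SimpGroup

variable (X : SimplicialObject GrpCat.{u})

/-- The group of n-simplices. -/
abbrev Gr (n : ℕ) : Type u := (X.obj (op ⦋n⦌) : GrpCat.{u})

/-- Face map. -/
abbrev d {n : ℕ} (j : Fin (n + 2)) : Gr X (n + 1) →* Gr X n := (X.δ j).hom

/-- Degeneracy map. -/
abbrev s {n : ℕ} (j : Fin (n + 1)) : Gr X n →* Gr X (n + 1) := (X.σ j).hom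

variable {X}

lemma d_d {n : ℕ} {i j : Fin (n + 2)} (h : i ≤ j) (x : Gr X (n + 2)) :
    d X i (d X j.succ x) = d X j (d X i.castSucc x) :=
  ConcreteCategory.congr_hom (X.δ_comp_δ h) x

lemma d_s_self {n : ℕ} (i : Fin (n + 1)) (x : Gr X n) : d X i.castSucc (s X i x) = x :=
  ConcreteCategory.congr_hom (X.δ_comp_σ_self (i := i)) x

lemma d_s_succ {n : ℕ} (i : Fin (n + 1)) (x : Gr X n) : d X i.succ (s X i x) = x :=
  ConcreteCategory.congr_hom (X.δ_comp_σ_succ (i := i)) x

lemma d_s_le {n : ℕ} {i : Fin (n + 2)} {j : Fin (n + 1)} (h : i ≤ j.castSucc) (x : Gr X (n + 1)) :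
    d X i.castSucc (s X j.succ x) = s X j (d X i x) :=
  ConcreteCategory.congr_hom (X.δ_comp_σ_of_le h) x

lemma d_s_gt {n : ℕ} {i : Fin (n + 2)} {j : Fin (n + 1)} (h : j.castSucc < i) (x : Gr X (n + 1)) :
    d X i.succ (s X j.castSucc x) = s X j (d X i x) :=
  ConcreteCategory.congr_hom (X.δ_comp_σ_of_gt h) x

/-- Compatibility of a horn. -/
def Compat : ∀ {n : ℕ} (_ : Fin (n + 2)) (_ : Fin (n + 2) → Gr X n), Prop
  | 0, _, _ => True
  | _ + 1, i, y => ∀ j k : Fin (_ + 2), j ≤ k → j.castSucc ≠ i → k.succ ≠ i →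
      d X k (y j.castSucc) = d X j (y k.succ)

theorem exists_filler : ∀ {n : ℕ} (i : Fin (n + 2)) (y : Fin (n + 2) → Gr X n), Compat i y →
    ∃ u : Gr X (n + 1), ∀ j, j ≠ i → d X j u = y j := by
  intro n i y hy
  have step1 : ∀ r : ℕ, r ≤ i.val → ∃ u : Gr X (n + 1), ∀ j : Fin (n + 2), j.val < r → d X j u = y j := by
    intro r
    induction r with
    | zero => exact fun _ => ⟨1, fun j hj => absurd hj (by omega)⟩
    | succ r ih =>
      intro hr
      obtain ⟨u, hu⟩ := ih (by omega)
      let r₀ : Fin (n + 1) := ⟨r, by omega⟩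
      refine ⟨u * s X r₀ ((d X r₀.castSucc u)⁻¹ * y r₀.castSucc), fun j hj => ?_⟩
      rcases (Nat.lt_succ_iff_lt_or_eq.1 hj) with hlt | heq
      · rw [map_mul, hu j hlt]
        obtain _ | n := n
        · omega
        obtain ⟨j', rfl⟩ : ∃ j' : Fin (n + 2), j = j'.castSucc := ⟨⟨j.val, by omega⟩, rfl⟩
        obtain ⟨q, hq⟩ : ∃ q : Fin (n + 1), r₀ = q.succ :=
          ⟨⟨r - 1, by omega⟩, Fin.ext (by simp [r₀]; simp at hlt; omega)⟩
        have hle : j' ≤ q.castSucc := by
          simp only [Fin.le_def, Fin.val_castSucc] at *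
          have := congrArg Fin.val hq
          simp [r₀] at this
          omega
        rw [hq, d_s_le hle, map_mul, map_inv, show q.succ.castSucc = q.castSucc.succ from rfl, d_d hle,
          hu _ hlt, hy j' q.castSucc hle ?_ ?_, inv_mul_cancel, map_one, mul_one]
        · intro h
          have := congrArg Fin.val h
          simp at this hlt
          omega
        · intro h
          have h1 := congrArg Fin.val h
          have h2 := congrArg Fin.val hq
          simp [r₀] at h1 h2
          omega
      · obtain rfl : j = r₀.castSucc := Fin.ext heq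
        rw [map_mul, d_s_self, ← mul_assoc, mul_inv_cancel, one_mul]
  have step2 : ∀ m : ℕ, m + i.val ≤ n + 1 →
      ∃ u : Gr X (n + 1), ∀ j : Fin (n + 2), j.val < i.val ∨ n + 1 < j.val + m → d X j u = y j := by
    intro m
    induction m with
    | zero =>
      intro _
      obtain ⟨u, hu⟩ := step1 i.val le_rfl
      exact ⟨u, fun j hj => hu j (by omega)⟩
    | succ m ih =>
      intro hm
      obtain ⟨u, hu⟩ := ih (by omega)
      let r₀ : Fin (n + 1) := ⟨n - m, by omega⟩
      refine ⟨u * s X r₀ ((d X r₀.succ u)⁻¹ * y r₀.succ), fun j hj => ?_⟩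
      by_cases heq : j.val = n - m + 1
      · obtain rfl : j = r₀.succ := Fin.ext heq
        rw [map_mul, d_s_succ, ← mul_assoc, mul_inv_cancel, one_mul]
      · have hj' : j.val < i.val ∨ n + 1 < j.val + m := by omega
        rw [map_mul, hu j hj']
        obtain _ | n := n
        · omega
        rcases hj' with hlt | hgt
        · obtain ⟨j', rfl⟩ : ∃ j' : Fin (n + 2), j = j'.castSucc := ⟨⟨j.val, by omega⟩, rfl⟩
          obtain ⟨q, hq⟩ : ∃ q : Fin (n + 1), r₀ = q.succ :=
            ⟨⟨n - m, by omega⟩, Fin.ext (by simp [r₀]; simp at hlt; omega)⟩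
          have h2 := congrArg Fin.val hq
          simp [r₀] at h2 hlt
          have hle : j' ≤ q.castSucc := by simp [Fin.le_def]; omega
          have hle' : j' ≤ r₀ := by simp [Fin.le_def, r₀]; omega
          rw [hq, d_s_le hle, ← hq, map_mul, map_inv, d_d hle', hu _ (Or.inl (by simpa using hlt)),
            hy j' r₀ hle' ?_ ?_, inv_mul_cancel, map_one, mul_one]
          · intro h
            have := congrArg Fin.val h
            simp at this
            omega
          · intro h
            have := congrArg Fin.val h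
            simp [r₀] at this
            omega
        · obtain ⟨j', rfl⟩ : ∃ j' : Fin (n + 2), j = j'.succ :=
            ⟨⟨j.val - 1, by omega⟩, Fin.ext (by simp; omega)⟩
          simp only [Fin.val_succ] at hgt heq
          obtain ⟨q, hq⟩ : ∃ q : Fin (n + 1), r₀ = q.castSucc := ⟨⟨n + 1 - m, by omega⟩, rfl⟩
          have h2 := congrArg Fin.val hq
          simp [r₀] at h2
          have hlt : q.castSucc < j' := by simp [Fin.lt_def]; omega
          have hle : q.succ ≤ j' := by simp [Fin.le_def]; omega
          rw [hq, d_s_gt hlt, map_mul, map_inv, show q.castSucc.succ = q.succ.castSucc from rfl, ← d_d hle]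
          have h3 := hy q.succ j' hle ?_ ?_
          · rw [hu j'.succ (Or.inr (by simp; omega)), h3, inv_mul_cancel, map_one, mul_one]
          · intro h
            have := congrArg Fin.val h
            simp at this
            omega
          · intro h
            have := congrArg Fin.val h
            simp at this
            omega
  obtain ⟨u, hu⟩ := step2 (n + 1 - i.val) (by omega)
  exact ⟨u, fun j hj => hu j (by have := Fin.val_ne_of_ne hj; omega)⟩

theorem kanComplex (X : SimplicialObject GrpCat.{u}) : SSet.KanComplex (X ⋙ forget GrpCat.{u}) := by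
  rw [SSet.KanComplex.iff]
  intro n i f hf
  classical
  let y : Fin (n + 2) → Gr X n := fun j => if h : j ≠ i then SSet.yonedaEquiv (f j h) else 1
  have hy : Compat i y := by
    obtain _ | n := n
    · trivial
    intro j k hjk hj hk
    have h := hf j.castSucc k.succ hj hk (Fin.castSucc_lt_succ_iff.2 hjk)
    simp only [Fin.pred_succ, Fin.castPred_castSucc] at h
    rw [show f j.castSucc hj = SSet.yonedaEquiv.symm (y j.castSucc) by
        rw [show y j.castSucc = SSet.yonedaEquiv (f j.castSucc hj) from dif_pos hj, Equiv.symm_apply_apply],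
      show f k.succ hk = SSet.yonedaEquiv.symm (y k.succ) by
        rw [show y k.succ = SSet.yonedaEquiv (f k.succ hk) from dif_pos hk, Equiv.symm_apply_apply],
      SSet.stdSimplex.δ_comp_yonedaEquiv_symm, SSet.stdSimplex.δ_comp_yonedaEquiv_symm] at h
    exact SSet.yonedaEquiv.symm.injective h
  obtain ⟨u, hu⟩ := exists_filler i y hy
  refine ⟨SSet.yonedaEquiv.symm u, fun j hj => ?_⟩
  rw [SSet.stdSimplex.δ_comp_yonedaEquiv_symm, Equiv.symm_apply_eq]
  exact (hu j hj).trans (dif_pos hj)

end Groth.Agent.SimpGroup
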