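import Groth.Agent.SimpGroup.Kan
import Mathlib
import Mathlib.Algebra.Category.Grp.Preadditive

/-! A surjective map of simplicial abelian groups is a Kan fibration. -/

universe u

open CategoryTheory Simplicial Opposite

noncomputable section

namespace Groth.Agent.SimpGroup

variable {Xa Ya : SimplicialObject AddCommGrpCat.{u}} (f : Xa ⟶ Ya)

lemma app_naturality {m n : SimplexCategoryᵒᵖ} (φ : m ⟶ n) (x : Xa.obj m) :
    f.app n (Xa.map φ x) = Ya.map φ (f.app m x) :=
  ConcreteCategory.congr_hom (f.naturality φ) x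

/-- The kernel, as a simplicial group written multiplicatively. -/
def kerGrp : SimplicialObject GrpCat.{u} where
  obj n := GrpCat.of (Multiplicative (f.app n).hom.ker)
  map {m n} φ := GrpCat.ofHom (AddMonoidHom.toMultiplicative
    (((Xa.map φ).hom.comp (f.app m).hom.ker.subtype).codRestrict (f.app n).hom.ker fun x => by
      rw [AddMonoidHom.mem_ker]
      show f.app n (Xa.map φ x.1) = 0
      rw [app_naturality, show f.app m x.1 = 0 from x.2, map_zero]))
  map_id n := by
    ext x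
    exact congrArg Multiplicative.ofAdd (Subtype.ext (ConcreteCategory.congr_hom (Xa.map_id n) x.toAdd.1))
  map_comp φ ψ := by
    ext x
    exact congrArg Multiplicative.ofAdd (Subtype.ext (ConcreteCategory.congr_hom (Xa.map_comp φ ψ) x.toAdd.1))

/-- Compatibility of a horn in a simplicial abelian group. -/
def CompatX {n : ℕ} (i : Fin (n + 2)) (x : Fin (n + 2) → Xa.obj (op ⦋n⦌)) : Prop :=
  match n, i, x with
  | 0, _, _ => True
  | m + 1, i, x => ∀ j k : Fin (m + 2), j ≤ k → j.castSucc ≠ i → k.succ ≠ i →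
      Xa.δ k (x j.castSucc) = Xa.δ j (x k.succ)

theorem exists_lift (hf : ∀ n : SimplexCategoryᵒᵖ, Function.Surjective (f.app n)) {n : ℕ} (i : Fin (n + 2))
    (x : Fin (n + 2) → Xa.obj (op ⦋n⦌)) (y : Ya.obj (op ⦋n + 1⦌))
    (hy : ∀ j, j ≠ i → f.app _ (x j) = Ya.δ j y)
    (hx : CompatX i x) :
    ∃ z : Xa.obj (op ⦋n + 1⦌), f.app _ z = y ∧ ∀ j, j ≠ i → Xa.δ j z = x j := by
  classical
  obtain ⟨z₀, hz₀⟩ := hf _ y
  let c : Fin (n + 2) → Gr (kerGrp f) n := fun j => Multiplicative.ofAdd (α := ↥((f.app (op ⦋n⦌)).hom.ker))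
    (if h : j ≠ i then ⟨x j - Xa.δ j z₀, by
      rw [AddMonoidHom.mem_ker, map_sub]
      show f.app _ (x j) - f.app _ (Xa.δ j z₀) = 0
      rw [hy j h, ← hz₀]
      show Ya.δ j (f.app _ z₀) - f.app _ (Xa.δ j z₀) = 0
      rw [SimplicialObject.δ_def, SimplicialObject.δ_def, app_naturality, sub_self]⟩ else 0)
  have hval : ∀ j, j ≠ i → ((c j).toAdd : (f.app (op ⦋n⦌)).hom.ker).1 = x j - Xa.δ j z₀ := fun j h => by
    simp only [c, dif_pos h]; rfl
  have hc : Compat i c := by
    obtain _ | n := n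
    · trivial
    intro j k hjk hj hk
    refine congrArg Multiplicative.ofAdd (Subtype.ext ?_)
    show Xa.δ k ((c j.castSucc).toAdd.1) = Xa.δ j ((c k.succ).toAdd.1)
    rw [hval _ hj, hval _ hk, map_sub, map_sub]
    congr 1
    · exact hx j k hjk hj hk
    · exact (ConcreteCategory.congr_hom (Xa.δ_comp_δ hjk) z₀).symm
  obtain ⟨u, hu⟩ := exists_filler i c hc
  refine ⟨z₀ + (u.toAdd).1, ?_, fun j hj => ?_⟩
  · rw [map_add, hz₀, show f.app _ (u.toAdd).1 = 0 from u.toAdd.2, add_zero]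
  · have h := congrArg (fun w => (Multiplicative.toAdd w : (f.app (op ⦋n⦌)).hom.ker).1) (hu j hj)
    rw [map_add, show Xa.δ j (u.toAdd).1 = x j - Xa.δ j z₀ from h.trans (hval j hj), add_sub_cancel]

theorem kanFibration (hf : ∀ n : SimplexCategoryᵒᵖ, Function.Surjective (f.app n)) :
    SSet.modelCategoryQuillen.J.rlp (X := Xa ⋙ forget AddCommGrpCat.{u}) (Y := Ya ⋙ forget AddCommGrpCat.{u})
      (Functor.whiskerRight f (forget AddCommGrpCat.{u})) := by
  intro A B g hJ
  simp only [SSet.modelCategoryQuillen.J, MorphismProperty.iSup_iff] at hJ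
  obtain ⟨n, ⟨i⟩⟩ := hJ
  refine ⟨fun {t b} sq => ?_⟩
  classical
  let x : Fin (n + 2) → Xa.obj (op ⦋n⦌) := fun j => if h : j ≠ i then SSet.yonedaEquiv (SSet.horn.ι i j h ≫ t) else 0
  have hxv : ∀ j (h : j ≠ i), SSet.horn.ι i j h ≫ t = SSet.yonedaEquiv.symm (x j) := fun j h => by
    rw [show x j = SSet.yonedaEquiv (SSet.horn.ι i j h ≫ t) from dif_pos h, Equiv.symm_apply_apply]
  obtain ⟨z, hz, hzd⟩ := exists_lift f hf i x (SSet.yonedaEquiv b) (fun j hj => by
      have h := congrArg (fun q => SSet.yonedaEquiv (SSet.horn.ι i j hj ≫ q)) sq.w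
      rw [← Category.assoc, hxv j hj] at h
      rw [← Category.assoc, SSet.horn.ι_ι] at h
      rw [SSet.yonedaEquiv_comp, Equiv.apply_symm_apply, ← SSet.yonedaEquiv.symm_apply_apply b] at h
      erw [SSet.stdSimplex.δ_comp_yonedaEquiv_symm, Equiv.apply_symm_apply] at h
      exact h) (by
      obtain _ | n := n
      · trivial
      intro j k hjk hj hk
      have h := SSet.horn.IsCompatible.of_hom t j.castSucc k.succ hj hk (Fin.castSucc_lt_succ_iff.2 hjk)
      simp only [Fin.pred_succ, Fin.castPred_castSucc] at h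
      erw [hxv _ hj, hxv _ hk, SSet.stdSimplex.δ_comp_yonedaEquiv_symm, SSet.stdSimplex.δ_comp_yonedaEquiv_symm] at h
      exact SSet.yonedaEquiv.symm.injective h)
  refine ⟨⟨{ l := SSet.yonedaEquiv.symm z, fac_left := ?_, fac_right := ?_ }⟩⟩
  · refine SSet.horn.hom_ext' fun j hj => ?_
    rw [SSet.horn.ι_ι_assoc, SSet.stdSimplex.δ_comp_yonedaEquiv_symm, hxv j hj]
    exact congrArg SSet.yonedaEquiv.symm (hzd j hj)
  · apply SSet.yonedaEquiv.injective
    rw [SSet.yonedaEquiv_comp, Equiv.apply_symm_apply]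
    exact hz

end Groth.Agent.SimpGroup
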