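import Groth.Agent.SimpGroup.Fibration
import Mathlib

/-! A surjective quasi-isomorphism of simplicial abelian groups is a trivial fibration. -/

set_option autoImplicit false
set_option backward.isDefEq.respectTransparency false

universe u

open CategoryTheory Simplicial Opposite AlgebraicTopology AlgebraicTopology.DoldKan

noncomputable section

namespace Groth.Agent.SimpGroup

theorem mem_range_of_quasiIso {S₁ S₂ : ShortComplex AddCommGrpCat.{u}} (φ : S₁ ⟶ S₂) [h : ShortComplex.QuasiIso φ]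
    (x : S₁.X₂) (hx : S₁.g x = 0) (hφ : φ.τ₂ x ∈ S₂.f.hom.range) : x ∈ S₁.f.hom.range := by
  have := (ShortComplex.quasiIso_iff_isIso_leftHomologyMap' φ S₁.abLeftHomologyData S₂.abLeftHomologyData).1 h
  have hinj := (ConcreteCategory.bijective_of_isIso
    (ShortComplex.leftHomologyMap' φ S₁.abLeftHomologyData S₂.abLeftHomologyData)).1
  let c : S₁.abLeftHomologyData.K := (⟨x, hx⟩ : AddMonoidHom.ker S₁.g.hom)
  have h1 := ConcreteCategory.congr_hom
    (ShortComplex.leftHomologyπ_naturality' φ S₁.abLeftHomologyData S₂.abLeftHomologyData) c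
  have h2 := ConcreteCategory.congr_hom
    (ShortComplex.cyclesMap'_i φ S₁.abLeftHomologyData S₂.abLeftHomologyData) c
  obtain ⟨y, hy⟩ := hφ
  have h3 : S₁.abLeftHomologyData.π c = 0 := by
    refine hinj ((h1.trans ?_).trans (map_zero _).symm)
    refine (QuotientAddGroup.eq_zero_iff _).2 ⟨y, Subtype.ext ?_⟩
    exact hy.trans h2.symm
  obtain ⟨a, ha⟩ := (QuotientAddGroup.eq_zero_iff _).1 h3
  exact ⟨a, congrArg Subtype.val ha⟩

theorem exists_cycle_of_quasiIso {S₁ S₂ : ShortComplex AddCommGrpCat.{u}} (φ : S₁ ⟶ S₂) [h : ShortComplex.QuasiIso φ]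
    (y : S₂.X₂) (hy : S₂.g y = 0) :
    ∃ x : S₁.X₂, S₁.g x = 0 ∧ y - φ.τ₂ x ∈ S₂.f.hom.range := by
  have := (ShortComplex.quasiIso_iff_isIso_leftHomologyMap' φ S₁.abLeftHomologyData S₂.abLeftHomologyData).1 h
  obtain ⟨q, hq⟩ := (ConcreteCategory.bijective_of_isIso
    (ShortComplex.leftHomologyMap' φ S₁.abLeftHomologyData S₂.abLeftHomologyData)).2
      (S₂.abLeftHomologyData.π (⟨y, hy⟩ : AddMonoidHom.ker S₂.g.hom))
  obtain ⟨c, rfl⟩ := QuotientAddGroup.mk'_surjective (AddMonoidHom.range S₁.abToCycles) q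
  have h1 := ConcreteCategory.congr_hom
    (ShortComplex.leftHomologyπ_naturality' φ S₁.abLeftHomologyData S₂.abLeftHomologyData) c
  have h2 := ConcreteCategory.congr_hom
    (ShortComplex.cyclesMap'_i φ S₁.abLeftHomologyData S₂.abLeftHomologyData) c
  obtain ⟨a, ha⟩ := (QuotientAddGroup.eq_iff_sub_mem).1 (hq.symm.trans h1)
  refine ⟨c.1, c.2, a, (congrArg Subtype.val ha).trans ?_⟩
  exact congrArg (fun w => y - w) h2

variable {Xa Ya : SimplicialObject AddCommGrpCat.{u}} (f : Xa ⟶ Ya)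

/-- The alternating face map complex. -/
abbrev altC (X : SimplicialObject AddCommGrpCat.{u}) : ChainComplex AddCommGrpCat.{u} ℕ :=
  (alternatingFaceMapComplex AddCommGrpCat.{u}).obj X

theorem δ_app {n : ℕ} (j : Fin (n + 2)) (x : Xa.obj (op ⦋n + 1⦌)) :
    f.app (op ⦋n⦌) (Xa.δ j x) = Ya.δ j (f.app (op ⦋n + 1⦌) x) := by
  rw [SimplicialObject.δ_def, SimplicialObject.δ_def, app_naturality]

/-- A normalised cycle in the kernel is a normalised boundary in the kernel. -/
theorem exists_normalized (hf : ∀ n : SimplexCategoryᵒᵖ, Function.Surjective (f.app n))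
    (hq : QuasiIso ((alternatingFaceMapComplex AddCommGrpCat.{u}).map f)) (n : ℕ) (z : Xa.obj (op ⦋n⦌))
    (hz : f.app _ z = 0) (hP : (PInfty : (altC Xa) ⟶ (altC Xa)).f n z = z) (hd : ((altC Xa)).d n ((ComplexShape.down ℕ).next n) z = 0) :
    ∃ w : Xa.obj (op ⦋n + 1⦌), f.app _ w = 0 ∧ Xa.δ 0 w = z ∧ ∀ j : Fin (n + 1), Xa.δ j.succ w = 0 := by
  let F := (alternatingFaceMapComplex AddCommGrpCat.{u}).map f
  haveI h0 := (quasiIsoAt_iff' F (n + 1) n ((ComplexShape.down ℕ).next n) (by simp) rfl).1 inferInstance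
  haveI h1 := (quasiIsoAt_iff' F (n + 2) (n + 1) n (by simp) (by simp)).1 inferInstance
  obtain ⟨w, hw⟩ := mem_range_of_quasiIso
    ((HomologicalComplex.shortComplexFunctor' _ _ (n + 1) n ((ComplexShape.down ℕ).next n)).map F) z hd
      ⟨0, (map_zero _).trans hz.symm⟩
  change (altC Xa).X (n + 1) at w
  change ((altC Xa)).d (n + 1) n w = z at hw
  have hfw : ((altC Ya)).d (n + 1) n (F.f (n + 1) w) = 0 := by
    rw [← ConcreteCategory.comp_apply, F.comm, ConcreteCategory.comp_apply, hw]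
    exact hz
  obtain ⟨c, hc, v, hv⟩ := exists_cycle_of_quasiIso
    ((HomologicalComplex.shortComplexFunctor' _ _ (n + 2) (n + 1) n).map F) (F.f (n + 1) w) hfw
  change (altC Xa).X (n + 1) at c
  change (altC Ya).X (n + 2) at v
  change ((altC Xa)).d (n + 1) n c = 0 at hc
  obtain ⟨v', hv'⟩ := hf (op ⦋n + 2⦌) v
  change ((altC Ya)).d (n + 2) (n + 1) v = F.f (n + 1) w - F.f (n + 1) c at hv
  let w' := w - c - ((altC Xa)).d (n + 2) (n + 1) v'
  have hw'f : F.f (n + 1) w' = 0 := by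
    have h2 : F.f (n + 1) (((altC Xa)).d (n + 2) (n + 1) v') = F.f (n + 1) w - F.f (n + 1) c := by
      rw [← ConcreteCategory.comp_apply, ← F.comm, ConcreteCategory.comp_apply]
      exact (congrArg _ hv').trans hv
    rw [map_sub, map_sub, h2, sub_self]
  have hw'd : ((altC Xa)).d (n + 1) n w' = z := by
    rw [map_sub, map_sub, hw, hc, ← ConcreteCategory.comp_apply, HomologicalComplex.d_comp_d]
    simp
  refine ⟨(PInfty : (altC Xa) ⟶ (altC Xa)).f (n + 1) w', ?_, ?_, ?_⟩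
  · have := ConcreteCategory.congr_hom (PInfty_f_naturality (n + 1) f) w'
    rw [ConcreteCategory.comp_apply, ConcreteCategory.comp_apply] at this
    exact this.symm.trans ((congrArg _ (show f.app (op ⦋n + 1⦌) w' = 0 from hw'f)).trans (map_zero _))
  all_goals
    have hv : ∀ j : Fin (n + 1), Xa.δ j.succ ((PInfty : (altC Xa) ⟶ (altC Xa)).f (n + 1) w') = 0 := fun j => by
      have := ConcreteCategory.congr_hom (HigherFacesVanish.of_P (X := Xa) (n + 1) n j (by omega)) w'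
      rw [PInfty_f]
      exact this
  · have h3 := ConcreteCategory.congr_hom ((PInfty : (altC Xa) ⟶ (altC Xa)).comm (n + 1) n) w'
    replace h3 : (altC Xa).d (n + 1) n ((PInfty : altC Xa ⟶ altC Xa).f (n + 1) w') = z :=
      h3.trans ((congrArg _ hw'd).trans hP)
    rw [alternatingFaceMapComplex_obj_d, AlternatingFaceMapComplex.objD] at h3
    refine Eq.trans ?_ h3
    refine Eq.trans ?_ (congrArg (fun g => (g : Xa.obj (op ⦋n + 1⦌) →+ Xa.obj (op ⦋n⦌))
      ((PInfty : (altC Xa) ⟶ (altC Xa)).f (n + 1) w'))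
      (map_sum AddCommGrpCat.homAddEquiv (fun i : Fin (n + 2) => (-1 : ℤ) ^ (i : ℕ) • Xa.δ i) Finset.univ)).symm
    rw [AddMonoidHom.finsetSum_apply, Fin.sum_univ_succ]
    show Xa.δ 0 _ = ((-1 : ℤ) ^ (0 : ℕ)) • Xa.δ 0 _ + ∑ x : Fin (n + 1), ((-1 : ℤ) ^ (x.succ : ℕ)) • Xa.δ x.succ _
    rw [Finset.sum_eq_zero fun x _ => by rw [hv, smul_zero], add_zero, pow_zero, one_smul]
  · exact hv

theorem δ_comp_δ' {n : ℕ} {i j : Fin (n + 2)} (H : i ≤ j) (x : Xa.obj (op ⦋n + 2⦌)) :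
    Xa.δ i (Xa.δ j.succ x) = Xa.δ j (Xa.δ i.castSucc x) :=
  ConcreteCategory.congr_hom (Xa.δ_comp_δ H) x

theorem exists_fill (hf : ∀ n : SimplexCategoryᵒᵖ, Function.Surjective (f.app n))
    (hq : QuasiIso ((alternatingFaceMapComplex AddCommGrpCat.{u}).map f)) {n : ℕ}
    (x : Fin (n + 2) → Xa.obj (op ⦋n⦌)) (y : Ya.obj (op ⦋n + 1⦌))
    (hy : ∀ j, f.app _ (x j) = Ya.δ j y)
    (hx : ∀ m (e : n = m + 1), ∀ j k : Fin (m + 2), j ≤ k →
      Xa.δ k (e ▸ x (Fin.cast (by omega) j.castSucc)) = Xa.δ j (e ▸ x (Fin.cast (by omega) k.succ))) :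
    ∃ z : Xa.obj (op ⦋n + 1⦌), f.app _ z = y ∧ ∀ j, Xa.δ j z = x j := by
  obtain ⟨z₀, hz₀, hz₀d⟩ := exists_lift f hf 0 x y (fun j _ => hy j) (by
    obtain _ | m := n
    · trivial
    · exact fun j k h _ _ => hx m rfl j k h)
  let z := x 0 - Xa.δ 0 z₀
  have hzf : f.app _ z = 0 := by rw [map_sub, hy, δ_app, hz₀, sub_self]
  obtain ⟨w, hwf, hw0, hwj⟩ : ∃ w : Xa.obj (op ⦋n + 1⦌), f.app _ w = 0 ∧ Xa.δ 0 w = z ∧
      ∀ j : Fin (n + 1), Xa.δ j.succ w = 0 := by
    obtain _ | m := n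
    · refine exists_normalized f hf hq 0 z hzf (by rw [PInfty_f_0]; rfl) ?_
      rw [(altC Xa).shape]
      · rfl
      · simp
    · have hfaces : ∀ k : Fin (m + 2), Xa.δ k z = 0 := fun k => by
        have h1 : Xa.δ k (x 0) = Xa.δ 0 (x k.succ) := hx m rfl 0 k (Fin.zero_le k)
        rw [map_sub, h1, ← hz₀d k.succ (Fin.succ_ne_zero k), δ_comp_δ' (Fin.zero_le k) z₀]
        exact sub_self _
      refine exists_normalized f hf hq (m + 1) z hzf ?_ ?_
      · have hv : HigherFacesVanish (X := Xa) (m + 1)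
            (AddCommGrpCat.ofHom (AddSubgroup.zmultiples z).subtype) := fun j _ => by
          apply ConcreteCategory.hom_ext
          rintro ⟨a, ha⟩
          obtain ⟨k, rfl⟩ := AddSubgroup.mem_zmultiples_iff.1 ha
          show Xa.δ j.succ (k • z) = 0
          rw [map_zsmul, hfaces, smul_zero]
        rw [PInfty_f]
        exact ConcreteCategory.congr_hom hv.comp_P_eq_self ⟨z, AddSubgroup.mem_zmultiples z⟩
      · rw [ChainComplex.next_nat_succ, alternatingFaceMapComplex_obj_d, AlternatingFaceMapComplex.objD]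
        refine (congrArg (fun g => (g : Xa.obj (op ⦋m + 1⦌) →+ Xa.obj (op ⦋m⦌)) z)
          (map_sum AddCommGrpCat.homAddEquiv (fun i : Fin (m + 2) => (-1 : ℤ) ^ (i : ℕ) • Xa.δ i) Finset.univ)).trans ?_
        rw [AddMonoidHom.finsetSum_apply]
        exact Finset.sum_eq_zero fun k _ => by
          show ((-1 : ℤ) ^ (k : ℕ)) • Xa.δ k z = 0
          rw [hfaces k, smul_zero]
  refine ⟨z₀ + w, by rw [map_add, hz₀, hwf, add_zero], fun j => ?_⟩
  rw [map_add]
  rcases Fin.eq_zero_or_eq_succ j with rfl | ⟨k, rfl⟩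
  · rw [hw0, add_sub_cancel]
  · rw [hwj, add_zero, hz₀d _ (Fin.succ_ne_zero k)]

theorem trivialFibration (hf : ∀ n : SimplexCategoryᵒᵖ, Function.Surjective (f.app n))
    (hq : QuasiIso ((alternatingFaceMapComplex AddCommGrpCat.{u}).map f)) :
    SSet.modelCategoryQuillen.I.rlp (X := Xa ⋙ forget AddCommGrpCat.{u}) (Y := Ya ⋙ forget AddCommGrpCat.{u})
      (Functor.whiskerRight f (forget AddCommGrpCat.{u})) := by
  rintro A B g ⟨m⟩
  refine ⟨fun {t b} sq => ?_⟩
  obtain _ | n := m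
  · obtain ⟨z, hz⟩ := hf _ (SSet.yonedaEquiv b)
    refine ⟨⟨{ l := SSet.yonedaEquiv.symm z, fac_left := SSet.boundary.hom_ext₀, fac_right := ?_ }⟩⟩
    apply SSet.yonedaEquiv.injective
    rw [SSet.yonedaEquiv_comp, Equiv.apply_symm_apply]
    exact hz
  let x : Fin (n + 2) → Xa.obj (op ⦋n⦌) := fun j => SSet.yonedaEquiv (SSet.boundary.ι j ≫ t)
  have hxv : ∀ j, SSet.boundary.ι j ≫ t = SSet.yonedaEquiv.symm (x j) := fun j =>
    (SSet.yonedaEquiv.symm_apply_apply _).symm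
  obtain ⟨z, hz, hzd⟩ := exists_fill f hf hq x (SSet.yonedaEquiv b) (fun j => by
      have h := congrArg (fun q => SSet.yonedaEquiv (SSet.boundary.ι j ≫ q)) sq.w
      rw [← Category.assoc, hxv j] at h
      rw [← Category.assoc, SSet.boundary.ι_ι] at h
      rw [SSet.yonedaEquiv_comp, Equiv.apply_symm_apply, ← SSet.yonedaEquiv.symm_apply_apply b] at h
      erw [SSet.stdSimplex.δ_comp_yonedaEquiv_symm, Equiv.apply_symm_apply] at h
      exact h) (fun k e j l hjl => by
      subst e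
      have hb : SSet.stdSimplex.δ l ≫ SSet.boundary.ι.{u} j.castSucc = SSet.stdSimplex.δ j ≫ SSet.boundary.ι l.succ := by
        rw [← cancel_mono (∂Δ[k + 2] : (Δ[k + 2] : SSet.{u}).Subcomplex).ι, Category.assoc, Category.assoc,
          SSet.boundary.ι_ι, SSet.boundary.ι_ι]
        exact (SSet.stdSimplex.δ_comp_δ hjl).symm
      have h := congrArg (· ≫ t) hb
      simp only [Category.assoc] at h
      erw [hxv, hxv, SSet.stdSimplex.δ_comp_yonedaEquiv_symm, SSet.stdSimplex.δ_comp_yonedaEquiv_symm] at h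
      exact SSet.yonedaEquiv.symm.injective h)
  refine ⟨⟨{ l := SSet.yonedaEquiv.symm z, fac_left := ?_, fac_right := ?_ }⟩⟩
  · refine SSet.boundary.hom_ext fun j => ?_
    rw [SSet.boundary.ι_ι_assoc, SSet.stdSimplex.δ_comp_yonedaEquiv_symm, hxv j]
    exact congrArg SSet.yonedaEquiv.symm (hzd j)
  · apply SSet.yonedaEquiv.injective
    rw [SSet.yonedaEquiv_comp, Equiv.apply_symm_apply]
    exact hz

end Groth.Agent.SimpGroup
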